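import Cfsg.Agent.Lib.Spor.Ly.Adj.Masks

/-!
The adjoint representation: some of the words are trivial.
-/

set_option autoImplicit false
set_option maxRecDepth 100000

namespace CfsgLib.Spor.Ly.Adj

open CfsgLib.Spor

/-- Some words. -/
def words1 : List (List ℕ) := [
  [2, 0, 2, 0, 2, 2, 0, 2, 0, 2, 0, 2, 0, 2, 2, 0, 2, 0, 2, 0, 2, 0, 2, 2, 0, 2, 0, 2, 0, 2, 0, 2, 2, 0, 2, 0, 2, 2, 1, 4, 4, 0, 2, 4, 3, 10, 4, 4, 4, 4, 3, 4, 2, 4, 4, 4, 4, 2, 4, 3, 4, 4, 4, 4, 3, 4, 2, 4, 4, 4, 4, 2, 4, 3, 4, 4, 4, 4, 3, 4, 2, 4, 4, 4, 4, 2, 4, 3, 4, 4, 4, 4, 3, 4, 2, 4, 4, 4, 4, 2, 4, 3, 11, 1, 4, 4, 0, 2, 4, 3, 0, 2, 0, 2, 2, 0, 2, 0, 2, 1, 4, 4, 0, 2, 4, 3, 1,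 4, 4, 0, 2, 4, 3, 1, 4, 4, 0, 2, 4, 3, 1, 4, 4, 0, 2, 4, 3, 10, 4, 4, 4, 4, 3, 4, 2, 4, 4, 4, 4, 2, 4, 3, 11, 1, 4, 4, 0, 2, 4, 3, 1, 4, 4, 0, 2, 4, 3, 1, 4, 4, 0, 2, 4, 3, 1, 4, 4, 0, 2, 4, 2, 2, 2, 0, 2, 0, 2, 2, 0, 2, 0, 2, 2, 2, 2, 2, 17],
  [1, 4, 4, 0, 2, 4, 3, 10, 4, 4, 4, 4, 3, 4, 2, 4, 4, 4, 4, 2, 4, 3, 4, 4, 4, 4, 3, 4, 2, 4, 4, 4, 4, 2, 4, 3, 4, 4, 4, 4, 3, 4, 2, 4, 4, 4, 4, 2, 4, 3, 4, 4, 4, 4, 3, 4, 2, 4, 4, 4, 4, 2, 4, 3, 11, 1, 4, 4, 0, 2, 4, 3, 0, 2, 0, 2, 2, 0, 2, 0, 2, 1, 4, 4, 0, 2, 4, 3, 1, 4, 4, 0, 2, 4, 3, 1, 4, 4, 0, 2, 4, 3, 1, 4, 4, 0, 2, 4, 3, 10, 4, 4, 4, 4, 3, 4, 2, 4, 4, 4, 4, 2, 4, 3, 11, 1, 4, 4, 0, 2, 4, 3, 1, 4,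 4, 0, 2, 4, 3, 1, 4, 4, 0, 2, 4, 3, 1, 4, 4, 0, 2, 4, 3, 19],
  [0, 2, 0, 2, 2, 0, 2, 0, 2, 21],
  [10, 4, 4, 4, 4, 3, 4, 2, 4, 4, 4, 4, 2, 4, 3, 11, 23],
  [1, 4, 4, 0, 2, 4, 3, 25],
  [2, 27],
  [1, 4, 4, 0, 2, 4, 3, 10, 4, 4, 4, 4, 3, 4, 2, 4, 4, 4, 4, 2, 4, 3, 4, 4, 4, 4, 3, 4, 2, 4, 4, 4, 4, 2, 4, 3, 4, 4, 4, 4, 3, 4, 2, 4, 4, 4, 4, 2, 4, 3, 4, 4, 4, 4, 3, 4, 2, 4, 4, 4, 4, 2, 4, 3, 11, 1, 4, 4, 0, 2, 4, 1, 4, 4, 0, 2, 4, 3, 1, 4, 4, 0, 2, 4, 3, 1, 4, 4, 0, 2, 4, 3, 1, 4, 4, 0, 2, 4, 3, 10, 4, 4, 4, 4, 3, 4, 2, 4, 4, 4, 4, 2, 4, 3, 11, 1, 4, 4, 0, 2, 4, 3, 1, 4, 4, 0, 2, 4, 3, 1, 4, 4, 0, 2, 4, 3, 1, 4, 4, 0, 2, 4, 3, 29],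
  [2, 0, 2, 0, 2, 2, 0, 2, 0, 2, 0, 2, 0, 2, 2, 0, 2, 0, 2, 0, 2, 0, 2, 2, 0, 2, 0, 2, 0, 2, 0, 2, 2, 0, 2, 0, 2, 2, 1, 4, 4, 0, 2, 4, 3, 10, 4, 4, 4, 4, 3, 4, 2, 4, 4, 4, 4, 2, 4, 3, 4, 4, 4, 4, 3, 4, 2, 4, 4, 4, 4, 2, 4, 3, 4, 4, 4, 4, 3, 4, 2, 4, 4, 4, 4, 2, 4, 3, 4, 4, 4, 4, 3, 4, 2, 4, 4, 4, 4, 2, 4, 3, 11, 1, 4, 4, 0, 2, 4, 1, 4, 4, 0, 2, 4, 3, 1, 4, 4, 0, 2, 4, 3, 1, 4, 4, 0, 2, 4, 3, 1, 4, 4, 0, 2, 4, 3, 10, 4, 4, 4, 4, 3, 4, 2, 4, 4, 4, 4, 2, 4, 3, 11, 1, 4, 4, 0, 2, 4, 3, 1, 4, 4, 0, 2, 4, 3, 1, 4, 4, 0, 2, 4, 3, 1, 4, 4, 0, 2, 4, 2, 2, 2, 0, 2, 0, 2, 2, 0, 2, 0, 2, 2, 2, 2, 2, 31]]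

theorem check1 : words1.all trivOK = true := by
  decide +kernel

end CfsgLib.Spor.Ly.Adj
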