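import Cfsg.Agent.Lib.Spor.Ly.Adj.Masks

/-!
The adjoint representation: some of the words are trivial.
-/

set_option autoImplicit false
set_option maxRecDepth 100000

namespace CfsgLib.Spor.Ly.Adj

open CfsgLib.Spor

/-- Some words. -/
def words2 : List (List ℕ) := [
  [2, 0, 2, 0, 2, 2, 0, 2, 0, 2, 0, 2, 0, 2, 2, 0, 2, 0, 2, 0, 2, 0, 2, 2, 0, 2, 0, 2, 0, 2, 0, 2, 2, 0, 2, 0, 2, 2, 1, 4, 4, 0, 2, 4, 2, 2, 2, 0, 2, 0, 2, 2, 0, 2, 0, 2, 2, 2, 2, 2, 33],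
  [1, 4, 4, 0, 2, 4, 3, 10, 4, 4, 4, 4, 3, 4, 2, 4, 4, 4, 4, 2, 4, 3, 4, 4, 4, 4, 3, 4, 2, 4, 4, 4, 4, 2, 4, 3, 4, 4, 4, 4, 3, 4, 2, 4, 4, 4, 4, 2, 4, 3, 4, 4, 4, 4, 3, 4, 2, 4, 4, 4, 4, 2, 4, 3, 11, 1, 4, 4, 0, 2, 4, 0, 2, 0, 2, 2, 0, 2, 0, 2, 0, 2, 0, 2, 2, 0, 2, 0, 2, 0, 2, 0, 2, 2, 0, 2, 0, 2, 0, 2, 0, 2, 2, 0, 2, 0, 2, 2, 1, 4, 4, 0, 2, 4, 2, 2, 2, 0, 2, 0, 2, 2, 0, 2, 0, 2, 2, 2, 2, 2, 1, 4, 4, 0, 2, 4, 3, 1, 4, 4, 0, 2, 4, 3, 1, 4, 4, 0, 2, 4, 3, 1, 4, 4, 0, 2, 4, 3, 10, 4, 4, 4, 4, 3, 4, 2, 4, 4, 4, 4, 2, 4, 3, 11, 1, 4, 4, 0, 2, 4, 3, 1, 4, 4, 0, 2, 4, 3, 1, 4, 4, 0, 2, 4, 3, 1, 4, 4, 0, 2, 4, 3, 35],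
  [24, 24, 22, 22, 24, 24, 24, 24, 24, 24, 22, 24, 24, 24, 24, 24, 24, 22, 22, 24, 24, 24, 24, 24, 24, 22, 24, 24, 24, 24, 26, 20, 24, 24, 22, 22, 24, 24, 24, 24, 24, 24, 22, 24, 24, 24, 24, 1],
  [26, 3],
  [24, 22, 22, 22, 22, 24, 26, 24, 24, 24, 24, 22, 24, 24, 24, 24, 26, 20, 20, 20, 20, 26, 24, 22, 22, 22, 22, 24, 26, 26, 24, 24, 24, 24, 22, 24, 24, 24, 24, 26, 26, 26, 26, 20, 26, 26, 26, 26, 26, 20, 20, 20, 20, 26, 24, 24, 26, 26, 26, 26, 20, 26, 26, 26, 26, 24, 22, 22, 22, 22, 24, 26, 20, 20, 20, 20, 26, 24, 24, 26, 26, 26, 26, 20, 26, 26, 26, 26, 24, 24, 24, 24, 22, 24, 24, 24, 24, 5],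
  [24, 22, 22, 22, 22, 24, 26, 20, 20, 20, 20, 26, 22, 26, 26, 26, 26, 20, 26, 26, 26, 26, 24, 24, 24, 24, 22, 24, 24, 24, 24, 24, 22, 22, 22, 22, 24, 26, 20, 20, 20, 20, 26, 24, 26, 26, 26, 26, 20, 26, 26, 26, 26, 24, 24, 24, 24, 22, 24, 24, 24, 24, 24, 22, 22, 22, 22, 24, 26, 20, 20, 20, 20, 26, 24, 26, 26, 26, 26, 20, 26, 26, 26, 26, 24, 24, 24, 24, 22, 24, 24, 24, 24, 24, 22, 22, 22, 22, 24, 26, 20, 20, 20, 20, 26, 24, 26, 26, 26, 26, 20, 26, 26, 26, 26, 24, 24, 24, 24, 22, 24, 24, 24, 24, 24, 22, 22, 22, 22, 24, 26, 20, 20, 20, 20, 26, 24, 26, 26, 26, 26, 20, 26, 26, 26, 26, 24, 24, 24, 24, 22, 24, 24, 24, 24, 24, 22, 22, 22, 22, 24, 26, 20, 20, 20, 20, 26, 22, 26, 26, 26, 26, 20, 26, 26, 26, 26, 24, 24, 24, 24, 22, 24, 24, 24, 24, 11]]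

theorem check2 : words2.all trivOK = true := by
  decide +kernel

end CfsgLib.Spor.Ly.Adj
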