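import Cfsg.Agent.Lib.Spor.Ly.Adj.Check0
import Cfsg.Agent.Lib.Spor.Ly.Adj.Check1
import Cfsg.Agent.Lib.Spor.Ly.Adj.Check2

/-!
The adjoint representation: the checked words, collected.
-/

set_option autoImplicit false
set_option maxRecDepth 100000

namespace CfsgLib.Spor.Ly.Adj

open CfsgLib.Spor

/-- The checked words. -/
def words : List (List ℕ) := words0 ++ words1 ++ words2

theorem words_check : words.all trivOK = true := by
  simp only [words, List.all_append, check0, check1, check2, Bool.and_true]

end CfsgLib.Spor.Ly.Adj
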