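import Cfsg.Agent.Lib.Spor.Ly.Adj.Masks

/-!
The adjoint representation: some of the words are trivial.
-/

set_option autoImplicit false
set_option maxRecDepth 100000

namespace CfsgLib.Spor.Ly.Adj

open CfsgLib.Spor

/-- Some words. -/
def words0 : List (List ℕ) := [
  [0, 1],
  [1, 0],
  [2, 3],
  [3, 2],
  [4, 5],
  [5, 4],
  [6, 7],
  [7, 6],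
  [8, 9],
  [9, 8],
  [10, 11],
  [11, 10],
  [12, 13],
  [13, 12],
  [14, 15],
  [15, 14],
  [16, 17],
  [17, 16],
  [18, 19],
  [19, 18],
  [20, 21],
  [21, 20],
  [22, 23],
  [23, 22],
  [24, 25],
  [25, 24],
  [26, 27],
  [27, 26],
  [28, 29],
  [29, 28],
  [30, 31],
  [31, 30],
  [32, 33],
  [33, 32],
  [34, 35],
  [35, 34],
  [0, 0, 0, 0, 0, 0, 0, 0],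
  [2, 2, 2, 2, 2],
  [0, 2, 0, 2, 0, 2, 0, 2],
  [1, 1, 3, 0, 0, 2],
  [1, 3, 0, 2, 1, 3, 0, 2, 1, 3, 0, 2],
  [6, 1, 5, 0, 5, 1, 4, 0, 4],
  [4, 4, 4, 4, 4],
  [6, 6, 6, 6, 6],
  [5, 7, 4, 6],
  [1, 5, 0, 7, 1, 4, 0, 6],
  [3, 5, 2, 7, 3, 4, 2, 6],
  [2, 5, 3, 7, 2, 4, 3, 6],
  [5, 3, 5, 2, 4, 3, 4, 2, 6, 6],
  [5, 2, 5, 3, 4, 2, 4, 3, 7, 7],
  [1, 5, 0, 3, 5, 2, 1, 4, 0, 3, 4, 2, 6],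
  [1, 5, 0, 2, 5, 3, 1, 4, 0, 2, 4, 3],
  [3, 5, 2, 2, 5, 3, 3, 4, 2, 2, 4, 3, 6],
  [1, 1, 4, 0, 0, 4, 4],
  [1, 3, 4, 2, 0, 2, 5, 3, 5, 3, 4, 4, 2],
  [1, 2, 4, 3, 0, 2, 5, 3, 5, 2, 5, 3, 3, 4, 2, 1, 4, 0, 5],
  [1, 6, 0, 7, 7],
  [3, 1, 4, 0, 2, 2, 4, 3, 4, 2, 4, 3, 3, 5, 2, 1, 5, 0],
  [3, 3, 4, 2, 4, 4, 2, 2, 5, 3, 5, 5],
  [3, 6, 2, 7],
  [8, 11, 5, 11, 2, 1, 3, 5, 11, 1, 5, 0, 5, 1, 4, 0, 2, 2],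
  [8, 8],
  [9, 4, 8, 4, 3, 3, 5],
  [9, 3, 4, 2, 8, 0, 2, 4, 3, 4, 1, 5, 3, 3],
  [9, 2, 4, 3, 8, 2, 5, 3, 3, 4, 3],
  [9, 6, 8, 2, 4, 3, 5, 3, 4, 2, 5],
  [8, 0, 0, 8, 2, 4, 3, 7, 5, 1, 2, 1, 3, 3, 1],
  [9, 2, 8, 2, 4, 4, 3, 3, 4, 2, 5],
  [8, 0, 2, 2, 0, 3, 0, 8, 2, 4, 3, 7, 5, 1, 1],
  [8, 1, 4, 0, 8, 1, 5, 0, 8, 1, 4, 0, 2, 5, 3, 0, 3, 4, 2, 0, 0, 0],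
  [10, 9, 3, 1, 4, 9, 1, 9, 1, 6, 2, 4, 3, 4, 2, 0, 3, 3, 1],
  [10, 10, 1, 1, 1, 1],
  [3, 11, 2, 10],
  [11, 0, 10, 1, 1, 1],
  [10, 6, 10, 6, 10, 6, 10, 6, 10, 6],
  [10, 6, 10, 7, 10, 6, 1, 1],
  [1, 4, 4, 0, 2, 4, 3, 10, 4, 4, 4, 4, 3, 4, 2, 4, 4, 4, 4, 2, 4, 3, 4, 4, 4, 4, 3, 4, 2, 4, 4, 4, 4, 2, 4, 3, 4, 4, 4, 4, 3, 4, 2, 4, 4, 4, 4, 2, 4, 3, 4, 4, 4, 4, 3, 4, 2, 4, 4, 4, 4, 2, 4, 3, 11, 1, 4, 4, 0, 2, 4, 0, 2, 0, 2, 2, 0, 2, 0, 2, 0, 2, 0, 2, 2, 0, 2, 0, 2, 0, 2, 0, 2, 2, 0, 2, 0, 2, 0, 2, 0, 2, 2, 0, 2, 0, 2, 2, 10, 4, 4, 4, 4, 3, 4, 2, 4, 4, 4, 4, 2, 4, 3, 11, 2, 2, 2, 2, 0, 2, 0, 2, 2, 0, 2, 0, 2, 2, 2, 2, 2, 1, 4, 4, 0, 2, 4, 3, 1, 4, 4, 0, 2, 4, 3, 1, 4, 4, 0, 2, 4, 3, 1,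 4, 4, 0, 2, 4, 3, 10, 4, 4, 4, 4, 3, 4, 2, 4, 4, 4, 4, 2, 4, 3, 11, 1, 4, 4, 0, 2, 4, 3, 1, 4, 4, 0, 2, 4, 3, 1, 4, 4, 0, 2, 4, 3, 1, 4, 4, 0, 2, 4, 3, 13],
  [2, 0, 2, 0, 2, 2, 0, 2, 0, 2, 0, 2, 0, 2, 2, 0, 2, 0, 2, 0, 2, 0, 2, 2, 0, 2, 0, 2, 0, 2, 0, 2, 2, 0, 2, 0, 2, 2, 10, 4, 4, 4, 4, 3, 4, 2, 4, 4, 4, 4, 2, 4, 3, 11, 2, 2, 2, 2, 0, 2, 0, 2, 2, 0, 2, 0, 2, 2, 2, 2, 2, 15]]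

theorem check0 : words0.all trivOK = true := by
  decide +kernel

end CfsgLib.Spor.Ly.Adj
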