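import Cfsg.Agent.Lib.Spor.PackedMat

/-!
The adjoint representation: some of the matrices, sixteen bits to an entry.
-/

set_option autoImplicit false
set_option maxRecDepth 100000

namespace CfsgLib.Spor.Ly.Adj

open CfsgLib.Spor

/-- Letter 6. -/
def mat6 : List ℕ := [
  0x200000001,
  0x400010000,
  0x100000000,
  0x1000000000000,
  0x10000000000000000,
  0x100000000000000000000,
  0x1000000000000000000000000,
  0x10000000000000000000000000000,
  0x100000000000000000002000000000000,
  0x1000000000000000000000000000000000000,
  0x10000000000000000000000020000000000000000,
  0x100000000000000000000000300000000000000000000,
  0x1000000000000000000030000000000000000000000000000,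
  0x10000000000000000000000000000000000000000000100030000]

/-- Letter 7. -/
def mat7 : List ℕ := [
  0x300000001,
  0x100010000,
  0x100000000,
  0x1000000000000,
  0x10000000000000000,
  0x100000000000000000000,
  0x1000000000000000000000000,
  0x10000000000000000000000000000,
  0x100000000000000000003000000000000,
  0x1000000000000000000000000000000000000,
  0x10000000000000000000000030000000000000000,
  0x100000000000000000000000200000000000000000000,
  0x1000000000000000000020000000000000000000000000000,
  0x10000000000000000000000000000000000000000000100020000]

/-- Letter 8. -/
def mat8 : List ℕ := [
  0x3000100040002000400000001,
  0x4000000020004000000040003,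
  0x3000000000000,
  0x200000000,
  0x40003000100000000,
  0x2000000010000000200000000,
  0x300030003000200000000,
  0x400000002000000030004000400000000,
  0x40000000100030002000000000000,
  0x20000000400000002000300000004000200030002,
  0x3000000020003000400000002000200040002,
  0x400010003000100010000000000040001000200040001,
  0x30000000400000004000400020002000100030004000100020000,
  0x2000300010001000400000001000100010001000300030004]

/-- Letter 9. -/
def mat9 : List ℕ := [
  0x3000100040002000400000001,
  0x4000000020004000000040003,
  0x3000000000000,
  0x200000000,
  0x40003000100000000,
  0x2000000010000000200000000,
  0x300030003000200000000,
  0x400000002000000030004000400000000,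
  0x40000000100030002000000000000,
  0x20000000400000002000300000004000200030002,
  0x3000000020003000400000002000200040002,
  0x400010003000100010000000000040001000200040001,
  0x30000000400000004000400020002000100030004000100020000,
  0x2000300010001000400000001000100010001000300030004]

/-- Letter 10. -/
def mat10 : List ℕ := [
  0x40001,
  0x40000,
  0x40000000000000000000000000000000000000000000000000000,
  0x100000000000000000000000000000000,
  0x10000000000000000000000000000000000000000,
  0x400000000000000000000000000000000000000000000,
  0x1000000000000000000000000,
  0x4000000000000000000000000000000000000000000000000,
  0x4000000000000,
  0x1000000000000000000000000000000000000,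
  0x40000000000000000,
  0x100000000000000000000,
  0x10000000000000000000000000000,
  0x400000000]

/-- Letter 11. -/
def mat11 : List ℕ := [
  0x40001,
  0x40000,
  0x40000000000000000000000000000000000000000000000000000,
  0x400000000000000000000000000000000,
  0x40000000000000000000000000000000000000000,
  0x100000000000000000000000000000000000000000000,
  0x1000000000000000000000000,
  0x1000000000000000000000000000000000000000000000000,
  0x1000000000000,
  0x1000000000000000000000000000000000000,
  0x10000000000000000,
  0x400000000000000000000,
  0x40000000000000000000000000000,
  0x400000000]

end CfsgLib.Spor.Ly.Adj
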