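import Cfsg.Agent.Lib.Spor.PackedMat

/-!
The adjoint representation: some of the matrices, sixteen bits to an entry.
-/

set_option autoImplicit false
set_option maxRecDepth 100000

namespace CfsgLib.Spor.Ly.Adj

open CfsgLib.Spor

/-- Letter 18. -/
def mat18 : List ℕ := [
  0x40000000000000000000000000000000000000001,
  0x20000000000000000000000000000000000010000,
  0x100000003000000020000000100000000,
  0x1000000000000,
  0x400000003000000010000000000000000,
  0x40000000000000000000100000000000000010004,
  0x100000001000000000000000000000000,
  0x40000000200000002000000010000000000000000000000000000,
  0x100000000000000000000000000000000,
  0x10000000200000001000000000000000000000000000000000000,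
  0x10000000000000000000000000000000000000000,
  0x10000000100000000000000000000000000000000000000000000,
  0x1000000000000000000000000000000000000000000000000,
  0x10000000000000000000000000000000000000000000000000000]

/-- Letter 19. -/
def mat19 : List ℕ := [
  0x10000000000000000000000000000000000000001,
  0x30000000000000000000000000000000000010000,
  0x400000003000000030000000100000000,
  0x1000000000000,
  0x400000002000000010000000000000000,
  0x40000000000000000000100000000000000040001,
  0x400000001000000000000000000000000,
  0x10000000200000003000000010000000000000000000000000000,
  0x100000000000000000000000000000000,
  0x10000000300000001000000000000000000000000000000000000,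
  0x10000000000000000000000000000000000000000,
  0x40000000100000000000000000000000000000000000000000000,
  0x1000000000000000000000000000000000000000000000000,
  0x10000000000000000000000000000000000000000000000000000]

/-- Letter 20. -/
def mat20 : List ℕ := [
  0x4000000000000000000000000000000000001,
  0x10000,
  0x100000000,
  0x40000000200020001000000000000,
  0x10000000200010000000000000000,
  0x10000000100000000000000000000,
  0x4000000000001000000000000000000040002,
  0x10000000000000000000000000000,
  0x1000300020000000100000000000000000000000000000000,
  0x1000000000000000000000000000000000000,
  0x4000300010000000000000000000000000000000000000000,
  0x1000100000000000000000000000000000000000000000000,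
  0x1000000000000000000000000000000000000000000000000,
  0x10000000000000000000000000000000000000000000000000000]

/-- Letter 21. -/
def mat21 : List ℕ := [
  0x1000000000000000000000000000000000001,
  0x10000,
  0x100000000,
  0x10000000200030001000000000000,
  0x10000000300010000000000000000,
  0x40000000100000000000000000000,
  0x4000000000001000000000000000000010003,
  0x10000000000000000000000000000,
  0x4000300030000000100000000000000000000000000000000,
  0x1000000000000000000000000000000000000,
  0x4000200010000000000000000000000000000000000000000,
  0x4000100000000000000000000000000000000000000000000,
  0x1000000000000000000000000000000000000000000000000,
  0x10000000000000000000000000000000000000000000000000000]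

/-- Letter 22. -/
def mat22 : List ℕ := [
  0x1,
  0x400000000000000000000000000010000,
  0x4000100000000,
  0x1000000000000,
  0x10000000000000000,
  0x4000100000000000000000000,
  0x1000000000000000000000000,
  0x400010000000000000000000000020002,
  0x100000000000000000000000000000000,
  0x10001000000000000000000000000000000000000,
  0x10000000000000000000000000000000000000000,
  0x100000000000000000000000000000000000000000000,
  0x10001000000000000000000000000000000000000000000000000,
  0x10000000000000000000000000000000000000000000000000000]

/-- Letter 23. -/
def mat23 : List ℕ := [
  0x1,
  0x100000000000000000000000000010000,
  0x1000100000000,
  0x1000000000000,
  0x10000000000000000,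
  0x1000100000000000000000000,
  0x1000000000000000000000000,
  0x400010000000000000000000000030003,
  0x100000000000000000000000000000000,
  0x40001000000000000000000000000000000000000,
  0x10000000000000000000000000000000000000000,
  0x100000000000000000000000000000000000000000000,
  0x40001000000000000000000000000000000000000000000000000,
  0x10000000000000000000000000000000000000000000000000000]

end CfsgLib.Spor.Ly.Adj
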