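import Cfsg.Agent.Lib.Spor.PackedMat

/-!
The adjoint representation: some of the matrices, sixteen bits to an entry.
-/

set_option autoImplicit false
set_option maxRecDepth 100000

namespace CfsgLib.Spor.Ly.Adj

open CfsgLib.Spor

/-- Letter 24. -/
def mat24 : List ℕ := [
  0x1,
  0x10000000000000000000000010000,
  0x100000000,
  0x1000400000000,
  0x10000000000000000,
  0x100000000000000000000,
  0x1000400000000000000000000,
  0x10000000000000000000000000000,
  0x100040000000000000000000000030003,
  0x1000000000000000000000000000000000000,
  0x10001000000000000000000000000000000000000,
  0x100000000000000000000000000000000000000000000,
  0x1000000000000000000000000000000000000000000000000,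
  0x10001000000000000000000000000000000000000000000000000]

/-- Letter 25. -/
def mat25 : List ℕ := [
  0x1,
  0x40000000000000000000000010000,
  0x100000000,
  0x1000100000000,
  0x10000000000000000,
  0x100000000000000000000,
  0x1000100000000000000000000,
  0x10000000000000000000000000000,
  0x100040000000000000000000000020002,
  0x1000000000000000000000000000000000000,
  0x10004000000000000000000000000000000000000,
  0x100000000000000000000000000000000000000000000,
  0x1000000000000000000000000000000000000000000000000,
  0x10004000000000000000000000000000000000000000000000000]

/-- Letter 26. -/
def mat26 : List ℕ := [
  0x1000000000000000000000001,
  0x10000,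
  0x100000000,
  0x1000000000000,
  0x10004000000000000,
  0x100020004000000000000,
  0x1000000000000000000000000,
  0x10000000300030004000000000000,
  0x100000000000000000000000000000000,
  0x1000000000004000000000000000000010003,
  0x10000000400000000000000000000000000000000,
  0x100030000000100000000000000000000000000000000,
  0x1000300020000000100000000000000000000000000000000,
  0x10000000000000000000000000000000000000000000000000000]

/-- Letter 27. -/
def mat27 : List ℕ := [
  0x4000000000000000000000001,
  0x10000,
  0x100000000,
  0x1000000000000,
  0x10001000000000000,
  0x100030004000000000000,
  0x1000000000000000000000000,
  0x10000000200030001000000000000,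
  0x100000000000000000000000000000000,
  0x1000000000004000000000000000000040002,
  0x10000000100000000000000000000000000000000,
  0x100020000000100000000000000000000000000000000,
  0x1000200020000000400000000000000000000000000000000,
  0x10000000000000000000000000000000000000000000000000000]

/-- Letter 28. -/
def mat28 : List ℕ := [
  0x100000000000000000001,
  0x300000000000000010000,
  0x100000000,
  0x1000000000000,
  0x10000000400000000,
  0x100000000000000000000,
  0x1000000030000000100000000,
  0x10000000000000000000000000000,
  0x100000003000000020000000100000000,
  0x1000000040000000000000000000000000000,
  0x10000000000000000000400000000000000040001,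
  0x100000002000000040000000000000000000000000000,
  0x1000000000000000000000000000000000000000000000000,
  0x10000000300000003000000040000000000000000000000000000]

/-- Letter 29. -/
def mat29 : List ℕ := [
  0x400000000000000000001,
  0x200000000000000010000,
  0x100000000,
  0x1000000000000,
  0x10000000100000000,
  0x100000000000000000000,
  0x1000000020000000100000000,
  0x10000000000000000000000000000,
  0x100000002000000020000000400000000,
  0x1000000010000000000000000000000000000,
  0x10000000000000000000400000000000000010004,
  0x100000003000000040000000000000000000000000000,
  0x1000000000000000000000000000000000000000000000000,
  0x10000000200000003000000010000000000000000000000000000]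

end CfsgLib.Spor.Ly.Adj
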