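import Cfsg.Agent.Lib.Spor.PackedMat

/-!
The adjoint representation: some of the matrices, sixteen bits to an entry.
-/

set_option autoImplicit false
set_option maxRecDepth 100000

namespace CfsgLib.Spor.Ly.Adj

open CfsgLib.Spor

/-- Letter 30. -/
def mat30 : List ℕ := [
  0x20000000000000001,
  0x30000000000010000,
  0x100000000,
  0x1000000000000,
  0x10000000000000000,
  0x100000000000100000000,
  0x1000000000001000000000000,
  0x10000000000000000000000000000,
  0x100000000000000000000000000000000,
  0x1000000000000000300000000000400000000,
  0x10000000000000002000000000001000000000000,
  0x100000000000000000000000000040000000000000004,
  0x1000000000002000000000000000300000000000100000000,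
  0x10000000000020000000000000002000000000004000000000000]

/-- Letter 31. -/
def mat31 : List ℕ := [
  0x30000000000000001,
  0x20000000000010000,
  0x100000000,
  0x1000000000000,
  0x10000000000000000,
  0x100000000000400000000,
  0x1000000000004000000000000,
  0x10000000000000000000000000000,
  0x100000000000000000000000000000000,
  0x1000000000000000200000000000400000000,
  0x10000000000000003000000000001000000000000,
  0x100000000000000000000000000040000000000000001,
  0x1000000000003000000000000000300000000000400000000,
  0x10000000000030000000000000002000000000001000000000000]

/-- Letter 32. -/
def mat32 : List ℕ := [
  0x1000000000001,
  0x1000000010000,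
  0x100000000,
  0x1000000000000,
  0x10000000000000000,
  0x100000000000000000000,
  0x1000000000000000000000000,
  0x10000000000000000000100000000,
  0x100000000000000000000000000000000,
  0x1000000000000000000010000000000000000,
  0x10000000000000000000000000000000000000000,
  0x100000000000000000004000000000000000000000000,
  0x1000000000000000000000000000000000004000000010002,
  0x10000000000000000000400000000000000000000000000000000]

/-- Letter 33. -/
def mat33 : List ℕ := [
  0x4000000000001,
  0x4000000010000,
  0x100000000,
  0x1000000000000,
  0x10000000000000000,
  0x100000000000000000000,
  0x1000000000000000000000000,
  0x10000000000000000000400000000,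
  0x100000000000000000000000000000000,
  0x1000000000000000000040000000000000000,
  0x10000000000000000000000000000000000000000,
  0x100000000000000000001000000000000000000000000,
  0x1000000000000000000000000000000000004000000040003,
  0x10000000000000000000100000000000000000000000000000000]

/-- Letter 34. -/
def mat34 : List ℕ := [
  0x100000001,
  0x200010000,
  0x100000000,
  0x1000000000000,
  0x10000000000000000,
  0x100000000000000000000,
  0x1000000000000000000000000,
  0x10000000000000000000000000000,
  0x100000000000000000001000000000000,
  0x1000000000000000000000000000000000000,
  0x10000000000000000000000010000000000000000,
  0x100000000000000000000000400000000000000000000,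
  0x1000000000000000000040000000000000000000000000000,
  0x10000000000000000000000000000000000000000000400040000]

/-- Letter 35. -/
def mat35 : List ℕ := [
  0x400000001,
  0x300010000,
  0x100000000,
  0x1000000000000,
  0x10000000000000000,
  0x100000000000000000000,
  0x1000000000000000000000000,
  0x10000000000000000000000000000,
  0x100000000000000000004000000000000,
  0x1000000000000000000000000000000000000,
  0x10000000000000000000000040000000000000000,
  0x100000000000000000000000100000000000000000000,
  0x1000000000000000000010000000000000000000000000000,
  0x10000000000000000000000000000000000000000000400010000]

end CfsgLib.Spor.Ly.Adj
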