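import Cfsg.Agent.Lib.Spor.Ly.Adj.Mats0
import Cfsg.Agent.Lib.Spor.Ly.Adj.Mats1
import Cfsg.Agent.Lib.Spor.Ly.Adj.Mats2
import Cfsg.Agent.Lib.Spor.Ly.Adj.Mats3
import Cfsg.Agent.Lib.Spor.Ly.Adj.Mats4
import Cfsg.Agent.Lib.Spor.Ly.Adj.Mats5

/-!
The adjoint representation: the letters and the constants of the arithmetic.
-/

set_option autoImplicit false
set_option maxRecDepth 100000

namespace CfsgLib.Spor.Ly.Adj

open CfsgLib.Spor

/-- The matrices of the letters. -/
def mats : List (List ℕ) := [mat0, mat1, mat2, mat3, mat4, mat5, mat6, mat7, mat8, mat9, mat10, mat11, mat12, mat13, mat14, mat15, mat16, mat17, mat18, mat19, mat20, mat21, mat22, mat23, mat24, mat25, mat26, mat27, mat28, mat29, mat30, mat31, mat32, mat33, mat34, mat35]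

/-- The constants of the arithmetic. -/
def ctx : PackedMat.Ctx where
  n := 14
  p := 5
  m := 209716
  K := 98
  col := 0xffff0000000000000000000000000000000000000000000000000000ffff0000000000000000000000000000000000000000000000000000ffff0000000000000000000000000000000000000000000000000000ffff0000000000000000000000000000000000000000000000000000ffff0000000000000000000000000000000000000000000000000000ffff0000000000000000000000000000000000000000000000000000ffff0000000000000000000000000000000000000000000000000000ffff0000000000000000000000000000000000000000000000000000ffff0000000000000000000000000000000000000000000000000000ffff0000000000000000000000000000000000000000000000000000ffff0000000000000000000000000000000000000000000000000000ffff0000000000000000000000000000000000000000000000000000ffff0000000000000000000000000000000000000000000000000000ffff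
  even := 0xffff0000ffff0000ffff0000ffff0000ffff0000ffff0000ffff0000ffff0000ffff0000ffff0000ffff0000ffff0000ffff0000ffff0000ffff0000ffff0000ffff0000ffff0000ffff0000ffff0000ffff0000ffff0000ffff0000ffff0000ffff0000ffff0000ffff0000ffff0000ffff0000ffff0000ffff0000ffff0000ffff0000ffff0000ffff0000ffff0000ffff0000ffff0000ffff0000ffff0000ffff0000ffff0000ffff0000ffff0000ffff0000ffff0000ffff0000ffff0000ffff0000ffff0000ffff0000ffff0000ffff0000ffff0000ffff0000ffff0000ffff0000ffff0000ffff0000ffff0000ffff0000ffff0000ffff0000ffff0000ffff0000ffff0000ffff0000ffff0000ffff0000ffff0000ffff0000ffff0000ffff0000ffff0000ffff0000ffff0000ffff0000ffff0000ffff0000ffff0000ffff0000ffff0000ffff0000ffff0000ffff0000ffff0000ffff0000ffff0000ffff0000ffff0000ffff0000ffff0000ffff0000ffff0000ffff0000ffff0000ffff0000ffff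
  top := 0xfff00000fff00000fff00000fff00000fff00000fff00000fff00000fff00000fff00000fff00000fff00000fff00000fff00000fff00000fff00000fff00000fff00000fff00000fff00000fff00000fff00000fff00000fff00000fff00000fff00000fff00000fff00000fff00000fff00000fff00000fff00000fff00000fff00000fff00000fff00000fff00000fff00000fff00000fff00000fff00000fff00000fff00000fff00000fff00000fff00000fff00000fff00000fff00000fff00000fff00000fff00000fff00000fff00000fff00000fff00000fff00000fff00000fff00000fff00000fff00000fff00000fff00000fff00000fff00000fff00000fff00000fff00000fff00000fff00000fff00000fff00000fff00000fff00000fff00000fff00000fff00000fff00000fff00000fff00000fff00000fff00000fff00000fff00000fff00000fff00000fff00000fff00000fff00000fff00000fff00000fff00000fff00000fff00000fff00000fff00000fff00000fff00000fff00000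

/-- The identity matrix. -/
def idMat : ℕ := 0x1000000000000000000000000000000000000000000000000000000000001000000000000000000000000000000000000000000000000000000000001000000000000000000000000000000000000000000000000000000000001000000000000000000000000000000000000000000000000000000000001000000000000000000000000000000000000000000000000000000000001000000000000000000000000000000000000000000000000000000000001000000000000000000000000000000000000000000000000000000000001000000000000000000000000000000000000000000000000000000000001000000000000000000000000000000000000000000000000000000000001000000000000000000000000000000000000000000000000000000000001000000000000000000000000000000000000000000000000000000000001000000000000000000000000000000000000000000000000000000000001000000000000000000000000000000000000000000000000000000000001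

end CfsgLib.Spor.Ly.Adj
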