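import Cfsg.Agent.Lib.Spor.Ly.Adj.Check
import Cfsg.Agent.Lib.Spor.Ly.Words
import Cfsg.Prelude.Def_ChevG2
import Cfsg.Agent.Lib.Lie.Chev.FullAll
import Cfsg.Agent.Lib.Lie.Chev.Api

/-!
Six matrices of the Chevalley group of type `G₂` over five elements generate it and satisfy the relators.
-/

set_option autoImplicit false
set_option maxRecDepth 100000

namespace CfsgLib.Spor.Ly.Adj

open CfsgLib.Spor CfsgLib.Spor.TC CfsgLib.Spor.HN Cfsg.Lie Matrix

instance fact_five : Fact (Nat.Prime 5) := ⟨by norm_num⟩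

attribute [local irreducible] PackedMat.through trivOK

local notation "Sq" => Matrix (Fin 14) (Fin 14) (ZMod 5)

local notation "M14" => Matrix chevG2.Idx chevG2.Idx (ZMod 5)

/-- The matrix of a letter. -/
noncomputable def mat (k : ℕ) : Sq := PackedMat.matOf 14 5 (mats.getD k [])

theorem triv_spec {w : List ℕ} (hw : ∀ k ∈ w, k < 36) (h : trivOK w = true) : (w.map mat).prod = 1 := by
  obtain ⟨hl, hr⟩ := mats_check
  have hMs : ∀ k < mats.length, PackedMat.rowsOK ctx.n ctx.p (mats.getD k []) = true := fun k hk => by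
    rw [List.getD_eq_getElem _ _ hk]
    exact List.all_eq_true.1 hr _ (List.getElem_mem _)
  have e := PackedMat.word_eq_scalar valid (show 1 < 5 by norm_num) (show 5 ≤ 65536 by norm_num) hMs
    (fun k hk => hl.symm ▸ hw k hk) (s := 1) (show 1 < 5 by norm_num)
    (by rw [scalar_enc, mul_one]; unfold trivOK at h; exact Nat.eq_of_beq_eq_true h)
  rw [Nat.cast_one, one_smul] at e
  exact e

theorem listed : (∀ k < 36, [k, invLetter 36 k] ∈ words) ∧
    (∀ r ∈ leviRels ++ radicalRels ++ outerRels, r ∈ words) ∧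
    (∀ r < 12, rootWords.getD r [] ++ [13 + 2 * r] ∈ words) ∧
    (∀ i < 4, genWords.getD i [] ++ [[1, 3, 5, 11].getD i 0] ∈ words) ∧
    ∀ r ∈ words, ∀ k ∈ r, k < 36 := by
  decide +kernel

theorem pair_spec (k : ℕ) (hk : k < 36) : mat k * mat (invLetter 36 k) = 1 := by
  have := triv_spec (w := [k, invLetter 36 k]) (fun j hj => listed.2.2.2.2 _ (listed.1 k hk) j hj)
    (List.all_eq_true.1 words_check _ (listed.1 k hk))
  simpa using this

/-- The index of a coordinate. -/
def idx : chevG2.Idx ≃ Fin 14 :=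
  (Equiv.sumCongr (finCongr (show chevG2.rank = 2 from rfl)) (finCongr (show chevG2.nroots = 12 from rfl))).trans
    finSumFinEquiv

theorem inv_even (i : Fin 18) : invLetter 36 (2 * i.1) = 2 * i.1 + 1 := by revert i; decide +kernel

theorem inv_odd (i : Fin 18) : invLetter 36 (2 * i.1 + 1) = 2 * i.1 := by revert i; decide +kernel

/-- Six generators, followed by twelve root elements. -/
noncomputable def gen (i : Fin 18) : GL chevG2.Idx (ZMod 5) :=
  Units.map (Matrix.reindexAlgEquiv (ZMod 5) (ZMod 5) idx.symm).toMulEquiv.toMonoidHom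
    { val := mat (2 * i.1)
      inv := mat (2 * i.1 + 1)
      val_inv := by
        have h := pair_spec (2 * i.1) (by omega)
        rwa [inv_even] at h
      inv_val := by
        have h := pair_spec (2 * i.1 + 1) (by omega)
        rwa [inv_odd] at h }

/-- The values of the letters. -/
noncomputable def gens : List (GL chevG2.Idx (ZMod 5)) := (List.finRange 18).map gen

theorem letter_val (k : ℕ) (hk : k < 36) :
    ((letterVal gens k : GL chevG2.Idx (ZMod 5)) : M14) = Matrix.reindexAlgEquiv (ZMod 5) (ZMod 5) idx.symm (mat k) := by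
  obtain ⟨i, rfl | rfl⟩ : ∃ i : Fin 18, k = 2 * i.1 ∨ k = 2 * i.1 + 1 :=
    ⟨⟨k / 2, by omega⟩, by show k = 2 * (k / 2) ∨ k = 2 * (k / 2) + 1; omega⟩
  · rw [letterVal, if_pos (by omega), show 2 * i.1 / 2 = i.1 by omega, gens,
      List.getD_eq_getElem _ _ (by simp)]
    simp [gen]
  · rw [letterVal, if_neg (by omega), show (2 * i.1 + 1) / 2 = i.1 by omega, gens,
      List.getD_eq_getElem _ _ (by simp)]
    simp [gen]

theorem word_val : ∀ w : List ℕ, (∀ k ∈ w, k < 36) →
    ((ev (letterVal gens) w : GL chevG2.Idx (ZMod 5)) : M14) =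
      Matrix.reindexAlgEquiv (ZMod 5) (ZMod 5) idx.symm (w.map mat).prod
  | [], _ => by simp [ev]
  | a :: w, hw => by
    rw [ev_cons, Units.val_mul, word_val w fun k hk => hw k (List.mem_cons_of_mem _ hk), List.map_cons,
      List.prod_cons, letter_val a (hw a List.mem_cons_self), map_mul]

theorem word_one {w : List ℕ} (hm : w ∈ words) : ev (letterVal gens) w = 1 := by
  refine Units.ext ?_
  rw [word_val w (listed.2.2.2.2 w hm), triv_spec (listed.2.2.2.2 w hm) (List.all_eq_true.1 words_check w hm),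
    map_one, Units.val_one]

theorem root_check : ∀ r : Fin 12, ∀ i : Fin 14, ∀ j : Fin 14,
    Nat.beq (PackedMat.entry ((mats.getD (12 + 2 * r.1) []).getD i.1 0) j.1)
      (chevG2.xMat (ZMod 5) (finCongr (show 12 = chevG2.nroots from rfl) r) 1 (idx.symm i) (idx.symm j)).val = true := by
  decide +kernel

theorem xMat_pow (r : Fin chevG2.nroots) (u : GL chevG2.Idx (ZMod 5)) (hu : (u : M14) = chevG2.xMat (ZMod 5) r 1)
    (n : ℕ) : ((u ^ n : GL chevG2.Idx (ZMod 5)) : M14) = chevG2.xMat (ZMod 5) r (n : ZMod 5) := by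
  let C : CfsgLib.Lie.Chev.Full chevG2 := CfsgLib.Lie.Chev.fullOf (by simp)
  have hx : ∀ t : ZMod 5, ((C.G.xu r t : GL chevG2.Idx (ZMod 5)) : M14) = chevG2.xMat (ZMod 5) r t := fun t => by
    rw [← C.G.x_eq_xu r t, ChevalleyDatum.x, dif_pos r.isLt]
  have he : u = C.G.xu r 1 := Units.ext (hu.trans (hx 1).symm)
  have : u ^ n = C.G.xu r (n : ZMod 5) := by
    induction n with
    | zero => rw [pow_zero, Nat.cast_zero, C.G.xu_zero]
    | succ n ih => rw [pow_succ, ih, he, Nat.cast_succ, C.G.xu_add]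
  rw [this, hx]

theorem root_val (r : Fin chevG2.nroots) :
    ((letterVal gens (12 + 2 * r.1) : GL chevG2.Idx (ZMod 5)) : M14) = chevG2.xMat (ZMod 5) r 1 := by
  have hr : r.1 < 12 := r.2
  rw [letter_val _ (by omega)]
  ext i j
  have h := Nat.eq_of_beq_eq_true (root_check ⟨r.1, hr⟩ (idx i) (idx j))
  rw [show finCongr (show 12 = chevG2.nroots from rfl) ⟨r.1, hr⟩ = r from Fin.ext rfl, Equiv.symm_apply_apply,
    Equiv.symm_apply_apply] at h
  simp only [Matrix.coe_reindexAlgEquiv, Matrix.reindex_apply, Matrix.submatrix_apply, Equiv.symm_symm]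
  show ((PackedMat.entry _ _ : ℕ) : ZMod 5) = _
  rw [h, ZMod.natCast_zmod_val]

/-- The six generators. -/
noncomputable def six : List (GL chevG2.Idx (ZMod 5)) := [gen 0, gen 1, gen 2, gen 3, gen 4, gen 5]

theorem six_word (w : List ℕ) (hw : ∀ k ∈ w, k < 12) : ev (letterVal six) w = ev (letterVal gens) w := by
  refine congrArg List.prod (List.map_congr_left fun x hx => ?_)
  have := hw x hx
  interval_cases x <;> rfl

theorem six_bound : (∀ r ∈ leviRels ++ radicalRels ++ outerRels, ∀ k ∈ r, k < 12) ∧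
    (∀ r ∈ rootWords, ∀ k ∈ r, k < 12) ∧ (∀ r ∈ genWords, ∀ k ∈ r, 12 ≤ k ∧ k < 36 ∧ k % 2 = 0) := by
  decide +kernel

theorem six_rels : ∀ r ∈ leviRels ++ radicalRels ++ outerRels, ev (letterVal six) r = 1 := fun r hr => by
  rw [six_word r (six_bound.1 r hr)]
  exact word_one (listed.2.1 r hr)

theorem inverse_letter (k : ℕ) (hk : k < 36) (u : GL chevG2.Idx (ZMod 5))
    (h : u * letterVal gens k = 1) : u = letterVal gens (invLetter 36 k) := by
  rw [show (36 : ℕ) = 2 * gens.length from by simp [gens], letterVal_inv, ← eq_inv_of_mul_eq_one_left h]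

theorem inv_root (r : Fin 12) : invLetter 36 (13 + 2 * r.1) = 12 + 2 * r.1 := by revert r; decide +kernel

theorem defined_check : radicalRels.getD 0 [] ∈ leviRels ++ radicalRels ++ outerRels ∧
    outerRels.getD 0 [] ∈ leviRels ++ radicalRels ++ outerRels ∧
    radicalRels.getD 0 [] = 6 :: (radicalRels.getD 0 []).tail ∧ outerRels.getD 0 [] = 8 :: (outerRels.getD 0 []).tail ∧
    ∀ x ∈ (radicalRels.getD 0 []).tail ++ (outerRels.getD 0 []).tail, x < 6 ∨ x = 10 ∨ x = 11 := by
  decide +kernel

theorem defined_mem {H : Subgroup (GL chevG2.Idx (ZMod 5))} (h0 : letterVal gens 0 ∈ H) (h2 : letterVal gens 2 ∈ H)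
    (h4 : letterVal gens 4 ∈ H) (h10 : letterVal gens 10 ∈ H) : letterVal gens 6 ∈ H ∧ letterVal gens 8 ∈ H := by
  obtain ⟨hr, ho, er, eo, hx⟩ := defined_check
  have hodd : ∀ x < 36, x % 2 = 0 → letterVal gens x ∈ H → letterVal gens (x + 1) ∈ H := by
    intro x _ h2 h
    unfold letterVal at h ⊢
    rw [if_pos h2] at h
    rw [if_neg (by omega), show (x + 1) / 2 = x / 2 by omega]
    exact inv_mem h
  have hmem : ∀ w : List ℕ, (∀ x ∈ w, x < 6 ∨ x = 10 ∨ x = 11) → ev (letterVal gens) w ∈ H := by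
    intro w hw
    refine Subgroup.list_prod_mem _ fun g hg => ?_
    obtain ⟨x, hxw, rfl⟩ := List.mem_map.1 hg
    rcases hw x hxw with h | rfl | rfl
    · interval_cases x
      exacts [h0, hodd 0 (by norm_num) rfl h0, h2, hodd 2 (by norm_num) rfl h2, h4, hodd 4 (by norm_num) rfl h4]
    · exact h10
    · exact hodd 10 (by norm_num) rfl h10
  constructor
  · have h := word_one (listed.2.1 _ hr)
    rw [er, ev_cons] at h
    rw [eq_inv_of_mul_eq_one_left h]
    exact inv_mem (hmem _ fun x hxm => hx x (List.mem_append_left _ hxm))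
  · have h := word_one (listed.2.1 _ ho)
    rw [eo, ev_cons] at h
    rw [eq_inv_of_mul_eq_one_left h]
    exact inv_mem (hmem _ fun x hxm => hx x (List.mem_append_right _ hxm))

theorem closure_six : Subgroup.closure {x | x ∈ six} = chevG2.group (ZMod 5) := by
  have hroot : ∀ r : Fin chevG2.nroots, letterVal gens (12 + 2 * r.1) ∈ Subgroup.closure {x | x ∈ six} := by
    intro r
    have hr : r.1 < 12 := r.2
    have h := word_one (listed.2.2.1 r.1 hr)
    rw [ev_append, show ev (letterVal gens) [13 + 2 * r.1] = letterVal gens (13 + 2 * r.1) by simp [ev]] at h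
    have e := inverse_letter _ (by omega) _ h
    rw [show invLetter 36 (13 + 2 * r.1) = 12 + 2 * r.1 from inv_root ⟨r.1, hr⟩] at e
    rw [← e, ← six_word _ (six_bound.2.1 _ (by rw [List.getD_eq_getElem _ _ hr]; exact List.getElem_mem _))]
    refine Subgroup.list_prod_mem _ fun g hg => ?_
    obtain ⟨x, -, rfl⟩ := List.mem_map.1 hg
    unfold letterVal
    have hd : six.getD (x / 2) 1 ∈ Subgroup.closure {y | y ∈ six} := by
      by_cases hx : x / 2 < six.length
      · rw [List.getD_eq_getElem _ _ hx]; exact Subgroup.subset_closure (List.getElem_mem hx)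
      · rw [List.getD_eq_default _ _ (Nat.le_of_not_lt hx)]; exact one_mem _
    split_ifs
    · exact hd
    · exact inv_mem hd
  refine le_antisymm ?_ ?_
  · have hgen : ∀ i < 4, letterVal gens ([0, 2, 4, 10].getD i 0) ∈ chevG2.group (ZMod 5) := by
      intro i hi
      have h := word_one (listed.2.2.2.1 i hi)
      rw [ev_append, show ev (letterVal gens) [[1, 3, 5, 11].getD i 0] = letterVal gens ([1, 3, 5, 11].getD i 0)
        by simp [ev]] at h
      have e := inverse_letter _ (by interval_cases i <;> decide) _ h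
      rw [show invLetter 36 ([1, 3, 5, 11].getD i 0) = [0, 2, 4, 10].getD i 0 by
        interval_cases i <;> decide +kernel] at e
      rw [← e]
      refine Subgroup.list_prod_mem _ fun g hg => ?_
      obtain ⟨x, hx, rfl⟩ := List.mem_map.1 hg
      obtain ⟨h1, h2, h3⟩ := six_bound.2.2 _ (by
        rw [List.getD_eq_getElem _ _ (by exact hi)]; exact List.getElem_mem _) x hx
      have hx' : x = 12 + 2 * ((x - 12) / 2) := by omega
      rw [hx']
      exact Subgroup.subset_closure ⟨⟨(x - 12) / 2, show (x - 12) / 2 < 12 by omega⟩, 1,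
        root_val (⟨(x - 12) / 2, show (x - 12) / 2 < 12 by omega⟩ : Fin chevG2.nroots)⟩
    refine (Subgroup.closure_le _).2 ?_
    have ha := hgen 0 (by norm_num)
    have hb := hgen 1 (by norm_num)
    have hc := hgen 2 (by norm_num)
    have hd := hgen 3 (by norm_num)
    have hf := defined_mem ha hb hc hd
    intro x hx
    simp only [six, Set.mem_ofPred_eq, List.mem_cons, List.not_mem_nil, or_false] at hx
    rcases hx with rfl | rfl | rfl | rfl | rfl | rfl
    exacts [ha, hb, hc, hf.1, hf.2, hd]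
  · refine (Subgroup.closure_le _).2 ?_
    rintro g ⟨r, t, hg⟩
    have hpow := xMat_pow r (letterVal gens (12 + 2 * r.1)) (root_val r)
    have e : g = letterVal gens (12 + 2 * r.1) ^ t.val := Units.ext (by rw [hg, hpow, ZMod.natCast_zmod_val])
    rw [e]
    exact pow_mem (hroot r) _

end CfsgLib.Spor.Ly.Adj
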