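import Cfsg.Agent.Lib.Spor.Ly.Adj.Data

/-!
The adjoint representation: some of the matrices are reduced.
-/

set_option autoImplicit false
set_option maxRecDepth 100000

namespace CfsgLib.Spor.Ly.Adj

open CfsgLib.Spor

theorem mat8_check : PackedMat.rowsOK ctx.n ctx.p mat8 = true := by decide +kernel

theorem mat9_check : PackedMat.rowsOK ctx.n ctx.p mat9 = true := by decide +kernel

theorem mat10_check : PackedMat.rowsOK ctx.n ctx.p mat10 = true := by decide +kernel

theorem mat11_check : PackedMat.rowsOK ctx.n ctx.p mat11 = true := by decide +kernel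

end CfsgLib.Spor.Ly.Adj
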