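import Cfsg.Agent.Lib.Spor.PackedMat

/-!
The adjoint representation: some of the matrices, sixteen bits to an entry.
-/

set_option autoImplicit false
set_option maxRecDepth 100000

namespace CfsgLib.Spor.Ly.Adj

open CfsgLib.Spor

/-- Letter 0. -/
def mat0 : List ℕ := [
  0x4000000000002000000000000000000040003,
  0x10000,
  0x200000000,
  0x40000000400030003000000000000,
  0x30000000000040003000000000000,
  0x40000000100000002000000000000,
  0x3000000000003000000000000000000010003,
  0x20000000100010003000000000000,
  0x3000300040000000400000000000000000000000000000000,
  0x3000000000002000000000000000000030004,
  0x1000000020000000400000000000000000000000000000000,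
  0x2000300000000000400000000000000000000000000000000,
  0x1000300020000000100000000000000000000000000000000,
  0x30000000000000000000000000000000000000000000000000000]

/-- Letter 1. -/
def mat1 : List ℕ := [
  0x4000000000002000000000000000000040003,
  0x10000,
  0x300000000,
  0x30000000300010001000000000000,
  0x10000000000030001000000000000,
  0x30000000200000004000000000000,
  0x3000000000003000000000000000000010003,
  0x40000000200020001000000000000,
  0x4000400020000000200000000000000000000000000000000,
  0x3000000000002000000000000000000030004,
  0x3000000010000000200000000000000000000000000000000,
  0x1000400000000000200000000000000000000000000000000,
  0x3000400010000000300000000000000000000000000000000,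
  0x20000000000000000000000000000000000000000000000000000]

/-- Letter 2. -/
def mat2 : List ℕ := [
  0x1000000000000000000000001,
  0x10000,
  0x100000000,
  0x1000000000000,
  0x10004000000000000,
  0x100020004000000000000,
  0x1000000000000000000000000,
  0x10000000300030004000000000000,
  0x100000000000000000000000000000000,
  0x1000000000004000000000000000000010003,
  0x10000000400000000000000000000000000000000,
  0x100030000000100000000000000000000000000000000,
  0x1000300020000000100000000000000000000000000000000,
  0x10000000000000000000000000000000000000000000000000000]

/-- Letter 3. -/
def mat3 : List ℕ := [
  0x4000000000000000000000001,
  0x10000,
  0x100000000,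
  0x1000000000000,
  0x10001000000000000,
  0x100030004000000000000,
  0x1000000000000000000000000,
  0x10000000200030001000000000000,
  0x100000000000000000000000000000000,
  0x1000000000004000000000000000000040002,
  0x10000000100000000000000000000000000000000,
  0x100020000000100000000000000000000000000000000,
  0x1000200020000000400000000000000000000000000000000,
  0x10000000000000000000000000000000000000000000000000000]

/-- Letter 4. -/
def mat4 : List ℕ := [
  0x100040002000400000001,
  0x300010002000000010000,
  0x100000000,
  0x1000000000000,
  0x10000000400000000,
  0x100000000000200000000,
  0x1000000030002000100000000,
  0x10000000000000000000200000000,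
  0x100000003000000020003000100000000,
  0x1000000040000000100020000000400000000,
  0x10000000000000004000400000004000100040001,
  0x100000002000000040003000000000001000100000003,
  0x1000000000004000000030000000200030001000400020004,
  0x10000000300040003000300040002000200020001000000030004]

/-- Letter 5. -/
def mat5 : List ℕ := [
  0x400010003000400000001,
  0x200040003000000010000,
  0x100000000,
  0x1000000000000,
  0x10000000100000000,
  0x100000000000300000000,
  0x1000000020003000100000000,
  0x10000000000000000000300000000,
  0x100000002000000020003000400000000,
  0x1000000010000000400030000000400000000,
  0x10000000000000001000400000004000400010004,
  0x100000003000000040002000000000001000400000002,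
  0x1000000000001000000030000000200030001000100030001,
  0x10000000200010003000200010002000300030004000000030004]

end CfsgLib.Spor.Ly.Adj
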